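import Groth.Agent.CAlg6.PSEndo
import Mathlib.RingTheory.MvPowerSeries.Evaluation
import Mathlib.RingTheory.MvPowerSeries.Substitution
import Mathlib.Topology.UniformSpace.DiscreteUniformity
import Mathlib.RingTheory.Ideal.Operations
import Mathlib.RingTheory.Noetherian.Nilpotent

/-!
Continuous maps out of power series rings into discrete algebras.
-/

set_option autoImplicit false

universe u

namespace Groth.Agent.FSPow12

open MvPowerSeries

variable {A : Type u} [CommRing A] {n : ℕ}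

theorem mem_span_X {f : MvPowerSeries (Fin n) A} (hf : constantCoeff f = 0) :
    f ∈ Ideal.span (Set.range (X : Fin n → MvPowerSeries (Fin n) A)) := by
  obtain ⟨g, -, rfl⟩ := CAlg6.exists_decomp (N := 0) (CAlg6.ordGE_one_iff.2 hf)
  exact sum_mem fun i _ => Ideal.mul_mem_right _ _ (Ideal.subset_span ⟨i, rfl⟩)

theorem ker_constantCoeff :
    RingHom.ker (constantCoeff : MvPowerSeries (Fin n) A →+* A) =
      Ideal.span (Set.range (X : Fin n → MvPowerSeries (Fin n) A)) := by
  refine le_antisymm (fun f hf => mem_span_X hf) (Ideal.span_le.mpr ?_)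
  rintro _ ⟨i, rfl⟩
  simp [RingHom.mem_ker, constantCoeff_X]

theorem exists_approx (m : ℕ) (f : MvPowerSeries (Fin n) A) :
    ∃ P : MvPolynomial (Fin n) A,
      f - (P : MvPowerSeries (Fin n) A) ∈ RingHom.ker (constantCoeff : MvPowerSeries (Fin n) A →+* A) ^ m := by
  induction m generalizing f with
  | zero => exact ⟨0, by simp⟩
  | succ m ih =>
    have h0 : constantCoeff (f - C (constantCoeff f)) = 0 := by simp
    have h1 := mem_span_X h0
    rw [Ideal.mem_span_range_iff_exists_fun] at h1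
    obtain ⟨c, hc⟩ := h1
    choose P hP using fun i => ih (c i)
    refine ⟨MvPolynomial.C (constantCoeff f) + ∑ i, P i * MvPolynomial.X i, ?_⟩
    have : f - ((MvPolynomial.C (constantCoeff f) + ∑ i, P i * MvPolynomial.X i : MvPolynomial (Fin n) A) :
        MvPowerSeries (Fin n) A) = ∑ i, (c i - (P i : MvPowerSeries (Fin n) A)) * X i := by
      simp only [sub_mul, Finset.sum_sub_distrib, hc]
      rw [← MvPolynomial.coeToMvPowerSeries.ringHom_apply, map_add, map_sum]
      simp only [map_mul, MvPolynomial.coeToMvPowerSeries.ringHom_apply, MvPolynomial.coe_C,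
        MvPolynomial.coe_X]
      abel
    rw [this, pow_succ]
    exact sum_mem fun i _ => Ideal.mul_mem_mul (hP i) (by simp [RingHom.mem_ker, constantCoeff_X])

variable {E : Type u} [CommRing E] [Algebra A E]

/-- The ideal defining the topology of `A[[T]]`. -/
noncomputable abbrev topIdeal (𝔞 : Ideal A) (n : ℕ) : Ideal (MvPowerSeries (Fin n) A) :=
  𝔞.map (C : A →+* MvPowerSeries (Fin n) A) ⊔
    RingHom.ker (constantCoeff : MvPowerSeries (Fin n) A →+* A)

theorem isNilpotent_map_X (𝔞 : Ideal A) (f : MvPowerSeries (Fin n) A →ₐ[A] E)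
    (hf : ∃ m : ℕ, ∀ x ∈ topIdeal 𝔞 n ^ m, f x = 0) (i : Fin n) : IsNilpotent (f (X i)) := by
  obtain ⟨m, hm⟩ := hf
  refine ⟨m, ?_⟩
  rw [← map_pow]
  exact hm _ (Ideal.pow_mem_pow (Ideal.mem_sup_right (by simp [RingHom.mem_ker, constantCoeff_X])) m)

theorem algHom_ext (𝔞 : Ideal A) {f g : MvPowerSeries (Fin n) A →ₐ[A] E}
    (hf : ∃ m : ℕ, ∀ x ∈ topIdeal 𝔞 n ^ m, f x = 0) (hg : ∃ m : ℕ, ∀ x ∈ topIdeal 𝔞 n ^ m, g x = 0)
    (h : ∀ i, f (X i) = g (X i)) : f = g := by
  obtain ⟨m, hm⟩ := hf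
  obtain ⟨m', hm'⟩ := hg
  ext x
  obtain ⟨P, hP⟩ := exists_approx (m + m') x
  have hle : RingHom.ker (constantCoeff : MvPowerSeries (Fin n) A →+* A) ^ (m + m') ≤
      topIdeal 𝔞 n ^ (m + m') := Ideal.pow_right_mono le_sup_right _
  have h1 : f (x - (P : MvPowerSeries (Fin n) A)) = 0 :=
    hm _ (Ideal.pow_le_pow_right (Nat.le_add_right _ _) (hle hP))
  have h2 : g (x - (P : MvPowerSeries (Fin n) A)) = 0 :=
    hm' _ (Ideal.pow_le_pow_right (Nat.le_add_left _ _) (hle hP))
  have h3 : f.comp (MvPolynomial.coeToMvPowerSeries.algHom A) =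
      g.comp (MvPolynomial.coeToMvPowerSeries.algHom A) := by
    refine MvPolynomial.algHom_ext fun i => ?_
    simpa [MvPolynomial.coeToMvPowerSeries.algHom_apply] using h i
  have h4 : f (P : MvPowerSeries (Fin n) A) = g (P : MvPowerSeries (Fin n) A) := by
    simpa [MvPolynomial.coeToMvPowerSeries.algHom_apply] using AlgHom.congr_fun h3 P
  rw [map_sub, sub_eq_zero] at h1 h2
  rw [h1, h2, h4]

theorem exists_algHom (𝔞 : Ideal A) (hE : ∃ k : ℕ, (𝔞 ^ k).map (algebraMap A E) = ⊥)
    (z : Fin n → E) (hz : ∀ i, IsNilpotent (z i)) :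
    ∃ g : MvPowerSeries (Fin n) A →ₐ[A] E,
      (∃ m : ℕ, ∀ x ∈ topIdeal 𝔞 n ^ m, g x = 0) ∧ ∀ i, g (X i) = z i := by
  let : UniformSpace A := ⊥
  let : UniformSpace E := ⊥
  have hA : DiscreteUniformity A := ⟨rfl⟩
  have hE' : DiscreteUniformity E := ⟨rfl⟩
  have : ContinuousSMul A E := ⟨continuous_of_discreteTopology⟩
  have ha : HasEval z := ⟨fun i => tendsto_atTop_of_eventually_const (i₀ := (hz i).choose)
      fun k hk => pow_eq_zero_of_le hk (hz i).choose_spec,
    by simp [Filter.cofinite_eq_bot]⟩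
  let g : MvPowerSeries (Fin n) A →ₐ[A] E := MvPowerSeries.aeval ha
  have hgX : ∀ i, g (X i) = z i := fun i => by
    rw [show (X i : MvPowerSeries (Fin n) A) = ((MvPolynomial.X i : MvPolynomial (Fin n) A) :
      MvPowerSeries (Fin n) A) from (MvPolynomial.coe_X i).symm]
    show MvPowerSeries.aeval ha _ = _
    rw [aeval_coe, MvPolynomial.aeval_X]
  refine ⟨g, ?_, hgX⟩
  have hle : (topIdeal 𝔞 n).map g.toRingHom ≤ 𝔞.map (algebraMap A E) ⊔ Ideal.span (Set.range z) := by
    rw [Ideal.map_sup, Ideal.map_map]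
    refine sup_le_sup ?_ ?_
    · refine le_of_eq (congrArg (fun φ => Ideal.map φ 𝔞) (RingHom.ext fun a => ?_))
      exact g.commutes a
    · rw [ker_constantCoeff, Ideal.map_span, ← Set.range_comp]
      exact Ideal.span_mono (Set.range_subset_range_iff_exists_comp.mpr ⟨id, funext hgX⟩)
  have hnil : IsNilpotent (𝔞.map (algebraMap A E) ⊔ Ideal.span (Set.range z)) := by
    rw [← Submodule.add_eq_sup]
    refine (Commute.all _ _).isNilpotent_add ?_ ?_
    · obtain ⟨k, hk⟩ := hE
      exact ⟨k, by rw [← Ideal.map_pow]; exact hk⟩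
    · refine (Ideal.FG.isNilpotent_iff_le_nilradical ⟨(Set.finite_range z).toFinset, by simp⟩).mpr ?_
      rw [Ideal.span_le]
      rintro _ ⟨i, rfl⟩
      exact hz i
  obtain ⟨m, hm⟩ := hnil
  refine ⟨m, fun x hx => ?_⟩
  have := Ideal.mem_map_of_mem g.toRingHom hx
  rw [Ideal.map_pow] at this
  exact (Submodule.mem_bot E).mp ((Ideal.pow_right_mono hle m).trans hm.le this)

end Groth.Agent.FSPow12
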