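import Mathlib.RingTheory.LocalRing.Module
import Mathlib.RingTheory.Ideal.Operations

/-!
Projective modules over local rings with nilpotent maximal ideal are free.
-/

set_option autoImplicit false

universe u

namespace Groth.Agent.FSPow12

theorem free_of_nilpotent {R P : Type u} [CommRing R] [IsLocalRing R]
    (hm : IsNilpotent (IsLocalRing.maximalIdeal R)) [AddCommGroup P] [Module R P] [Module.Projective R P] :
    Module.Free R P := by
  classical
  set m := IsLocalRing.maximalIdeal R
  let : Field (R ⧸ m) := Ideal.Quotient.field m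
  let b := Module.Basis.ofVectorSpace (R ⧸ m) (P ⧸ m • (⊤ : Submodule R P))
  choose v hv using fun i => Submodule.Quotient.mk_surjective _ (b i)
  let f := Finsupp.linearCombination R v
  obtain ⟨k, hk⟩ := hm
  have hsurj : Function.Surjective f := by
    have h1 : ∀ x : P, ∃ y, x - f y ∈ m • (⊤ : Submodule R P) := by
      intro x
      have hx : Submodule.Quotient.mk x ∈ Submodule.span (R ⧸ m) (Set.range b) := by
        rw [b.span_eq]; trivial
      have h2 : ∀ z ∈ Submodule.span (R ⧸ m) (Set.range b), ∃ y, z = Submodule.Quotient.mk (f y) := by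
        intro z hz
        induction hz using Submodule.span_induction with
        | mem w hw => obtain ⟨i, rfl⟩ := hw; exact ⟨Finsupp.single i 1, by simp [f, hv]⟩
        | zero => exact ⟨0, by simp⟩
        | add a c _ _ ha hc =>
          obtain ⟨a', rfl⟩ := ha; obtain ⟨c', rfl⟩ := hc
          exact ⟨a' + c', by simp⟩
        | smul r a _ ha =>
          obtain ⟨a', rfl⟩ := ha
          obtain ⟨r, rfl⟩ := Ideal.Quotient.mk_surjective r
          exact ⟨r • a', by rw [map_smul, Submodule.Quotient.mk_smul]; rfl⟩
      obtain ⟨y, hy⟩ := h2 _ hx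
      exact ⟨y, (Submodule.Quotient.eq _).mp hy⟩
    have h3 : ∀ j, LinearMap.range f ⊔ m ^ j • (⊤ : Submodule R P) = ⊤ := by
      intro j
      induction j with
      | zero => simp
      | succ j ih =>
        rw [eq_top_iff]
        rintro x -
        have h4 : m • (⊤ : Submodule R P) ≤ LinearMap.range f ⊔ m ^ (j + 1) • (⊤ : Submodule R P) := by
          calc m • (⊤ : Submodule R P) = m • (LinearMap.range f ⊔ m ^ j • (⊤ : Submodule R P)) := by rw [ih]
            _ = m • LinearMap.range f ⊔ m ^ (j + 1) • (⊤ : Submodule R P) := by
              rw [Submodule.smul_sup, ← smul_assoc, smul_eq_mul, ← pow_succ']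
            _ ≤ _ := sup_le_sup Submodule.smul_le_right le_rfl
        obtain ⟨y, hy⟩ := h1 x
        have := add_mem (h4 hy) (Submodule.mem_sup_left (LinearMap.mem_range_self f y) :
          f y ∈ LinearMap.range f ⊔ m ^ (j + 1) • (⊤ : Submodule R P))
        simpa using this
    have h5 := h3 k
    rw [hk] at h5
    rw [← LinearMap.range_eq_top]
    simpa using h5
  obtain ⟨s, hs⟩ := Module.projective_lifting_property f LinearMap.id hsurj
  have hfm : ∀ x, f x ∈ m • (⊤ : Submodule R P) → x ∈ m • (⊤ : Submodule R (_ →₀ R)) := by
    intro x hx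
    have h0 : Finsupp.linearCombination (R ⧸ m) b (x.mapRange (Ideal.Quotient.mk m) (map_zero _)) = 0 := by
      rw [Finsupp.linearCombination_apply, Finsupp.sum_mapRange_index (by simp)]
      rw [← (Submodule.Quotient.mk_eq_zero _).mpr hx]
      simp only [f, Finsupp.linearCombination_apply, Finsupp.sum]
      rw [← Submodule.mkQ_apply, map_sum]
      refine Finset.sum_congr rfl fun i _ => ?_
      rw [map_smul, Submodule.mkQ_apply, hv]
      rfl
    have h1 := linearIndependent_iff.mp b.linearIndependent _ h0
    rw [← x.sum_single]
    refine sum_mem fun i _ => ?_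
    have : x i ∈ m := Ideal.Quotient.eq_zero_iff_mem.mp (by simpa using DFunLike.congr_fun h1 i)
    rw [show Finsupp.single i (x i) = x i • Finsupp.single i (1 : R) by simp]
    exact Submodule.smul_mem_smul this trivial
  have hK : ∀ j, LinearMap.ker f ≤ m ^ j • LinearMap.ker f := by
    intro j
    induction j with
    | zero => simp
    | succ j ih =>
      refine ih.trans ?_
      rw [pow_succ, ← smul_eq_mul, smul_assoc]
      refine Submodule.smul_mono le_rfl fun x hx => ?_
      have hx' := hfm x (by rw [LinearMap.mem_ker.mp hx]; exact zero_mem _)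
      let q : _ →ₗ[R] LinearMap.ker f := (LinearMap.id - s ∘ₗ f).codRestrict _ (fun y => by
        have := LinearMap.congr_fun hs (f y)
        simp only [LinearMap.comp_apply, LinearMap.id_apply] at this
        simp [this])
      have h2 := Submodule.mem_map_of_mem (f := (LinearMap.ker f).subtype ∘ₗ q) hx'
      rw [Submodule.map_smul''] at h2
      have h3 : ((LinearMap.ker f).subtype ∘ₗ q) x = x := by simp [q, LinearMap.mem_ker.mp hx]
      rw [h3] at h2
      exact Submodule.smul_mono le_rfl (by rintro _ ⟨y, -, rfl⟩; exact (q y).2) h2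
  have hinj : Function.Injective f := by
    have := hK k
    rw [hk] at this
    rw [← LinearMap.ker_eq_bot]
    simpa using this
  exact Module.Free.of_equiv (LinearEquiv.ofBijective f ⟨hinj, hsurj⟩)

end Groth.Agent.FSPow12
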